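import Mathlib.RingTheory.Flat.EquationalCriterion
import Mathlib.RingTheory.Nakayama
import Mathlib.RingTheory.Finiteness.Nilpotent
import Mathlib.RingTheory.Nilpotent.Lemmas
import Mathlib.RingTheory.OrzechProperty
import Mathlib.RingTheory.Noetherian.Nilpotent
import Mathlib.Algebra.Module.Projective
import Mathlib.Tactic

/-!
# Finite projective modules along systems of surjections with nil kernels
-/

set_option autoImplicit false
set_option linter.style.haveILetI false

universe u

namespace Groth.Agent.LimProj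

variable {R : Type u} [CommRing R]

lemma mem_smul_top_pi {q : ℕ} (J : Ideal R) (x : Fin q → R) :
    x ∈ J • (⊤ : Submodule R (Fin q → R)) ↔ ∀ i, x i ∈ J := by
  constructor
  · intro hx i
    induction hx using Submodule.smul_induction_on' with
    | smul a ha v _ => exact J.mul_mem_right _ ha
    | add a _ b _ ha hb => exact J.add_mem ha hb
  · intro h
    rw [pi_eq_sum_univ' x]
    exact Submodule.sum_mem _ fun i _ => Submodule.smul_mem_smul (h i) Submodule.mem_top

lemma isNilpotent_of_entries {q : ℕ} {J : Ideal R} (hJ : J ≤ nilradical R) (ψ : (Fin q → R) →ₗ[R] (Fin q → R))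
    (h : ∀ i, ψ (Pi.single i 1) ∈ J • (⊤ : Submodule R (Fin q → R))) : ∃ k, ∀ v, (ψ ^ k) v = 0 := by
  classical
  let I : Ideal R := Ideal.span (Set.range fun p : Fin q × Fin q => ψ (Pi.single p.1 1) p.2)
  have hIJ : I ≤ J := Ideal.span_le.2 (by rintro _ ⟨p, rfl⟩; exact (mem_smul_top_pi J _).1 (h p.1) p.2)
  obtain ⟨k, hk⟩ := (Ideal.FG.isNilpotent_iff_le_nilradical (I := I) (Submodule.fg_span (Set.finite_range _))).2
    (hIJ.trans hJ)
  have hψ : ∀ v, ψ v ∈ I • (⊤ : Submodule R (Fin q → R)) := fun v => by
    rw [pi_eq_sum_univ' v, map_sum]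
    refine Submodule.sum_mem _ fun i _ => ?_
    rw [map_smul]
    exact Submodule.smul_mem _ _ ((mem_smul_top_pi I _).2 fun j => Ideal.subset_span ⟨(i, j), rfl⟩)
  have : ∀ n v, (ψ ^ n) v ∈ I ^ n • (⊤ : Submodule R (Fin q → R)) := by
    intro n
    induction n with
    | zero =>
      intro v
      rw [pow_zero, pow_zero, Ideal.one_eq_top, Submodule.top_smul]
      trivial
    | succ n ih =>
      intro v
      rw [pow_succ' ψ, Module.End.mul_apply, pow_succ I, Submodule.mul_smul]
      have := Submodule.mem_map_of_mem (f := ψ) (ih v)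
      rw [Submodule.map_smul''] at this
      exact Submodule.smul_mono le_rfl (by rintro _ ⟨w, _, rfl⟩; exact hψ w) this
  refine ⟨k, fun v => ?_⟩
  have := this k v
  rw [hk] at this
  simpa using this

variable {S : Type u} [CommRing S] {t : R →+* S}
variable {M : Type u} [AddCommGroup M] [Module R M] {N : Type u} [AddCommGroup N] [Module S N]

/-- A finite flat module which is projective modulo a nil ideal is projective. -/
theorem projective_of_reduction [Module.Finite R M] [Module.Flat R M] [Module.Projective S N]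
    (ht : Function.Surjective t) (hnil : ∀ x, t x = 0 → IsNilpotent x) (u : M →ₛₗ[t] N)
    (hu : Function.Surjective u) (hker : LinearMap.ker u = RingHom.ker t • (⊤ : Submodule R M)) :
    Module.Projective R M := by
  classical
  haveI : RingHomSurjective t := ⟨ht⟩
  set J := RingHom.ker t with hJ
  obtain ⟨q, f, hf⟩ := Module.Finite.exists_fin' R M
  let fb : (Fin q → S) →ₗ[S] N := Fintype.linearCombination S fun i => u (f (Pi.single i 1))
  have hfb : ∀ v : Fin q → R, fb (t ∘ v) = u (f v) := fun v => by
    conv_rhs => rw [pi_eq_sum_univ' v, map_sum, map_sum]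
    simp [fb, Fintype.linearCombination_apply]
  have hfbs : Function.Surjective fb := fun n => by
    obtain ⟨m, rfl⟩ := hu n
    obtain ⟨v, rfl⟩ := hf m
    exact ⟨_, hfb v⟩
  obtain ⟨σ, hσ⟩ := Module.projective_lifting_property fb LinearMap.id hfbs
  have hKfg : (LinearMap.ker fb).FG := by
    have : LinearMap.ker fb = LinearMap.range ((LinearMap.id : (Fin q → S) →ₗ[S] _) - σ.comp fb) := by
      refine le_antisymm (fun z hz => ⟨z, by simp [LinearMap.mem_ker.1 hz]⟩) ?_
      rintro _ ⟨z, rfl⟩
      have := LinearMap.congr_fun hσ (fb z)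
      simp only [LinearMap.comp_apply, LinearMap.id_apply] at this
      simp [this]
    rw [this]
    exact Module.Finite.iff_fg.1 (Module.Finite.range _)
  obtain ⟨p, g, hg⟩ := Submodule.fg_iff_exists_fin_generating_family.1 hKfg
  have hlift : ∀ v : Fin q → S, v ∈ LinearMap.ker fb → ∃ w ∈ LinearMap.ker f, t ∘ w = v := fun v hv => by
    choose w hw using fun i => ht (v i)
    have h1 : f w ∈ LinearMap.ker u := by
      rw [LinearMap.mem_ker, ← hfb, show t ∘ w = v from funext hw]
      exact hv
    rw [hker, ← LinearMap.range_eq_top.2 hf, ← Submodule.map_top, ← Submodule.map_smul''] at h1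
    obtain ⟨j, hj, hje⟩ := h1
    refine ⟨w - j, by simp [hje], funext fun i => ?_⟩
    have : t (j i) = 0 := (mem_smul_top_pi J j).1 hj i
    simp [hw, this]
  choose w hw hwt using fun i : Fin p => hlift (g i) (hg ▸ Submodule.subset_span ⟨i, rfl⟩)
  let N₀ : Submodule R (Fin q → R) := Submodule.span R (Set.range w)
  have hN₀ : N₀ ≤ LinearMap.ker f := Submodule.span_le.2 (by rintro _ ⟨i, rfl⟩; exact hw i)
  have hmod : ∀ x ∈ LinearMap.ker f, ∃ n ∈ N₀, x - n ∈ J • (⊤ : Submodule R (Fin q → R)) := fun x hx => by
    have h1 : t ∘ x ∈ LinearMap.ker fb := by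
      rw [LinearMap.mem_ker, hfb, LinearMap.mem_ker.1 hx, map_zero]
    rw [← hg] at h1
    obtain ⟨c, hc⟩ := (Submodule.mem_span_range_iff_exists_fun S).1 h1
    choose c' hc' using fun i => ht (c i)
    refine ⟨∑ i, c' i • w i, Submodule.sum_mem _ fun i _ => Submodule.smul_mem _ _ (Submodule.subset_span ⟨i, rfl⟩), ?_⟩
    refine (mem_smul_top_pi J _).2 fun i => ?_
    show t ((x - ∑ j, c' j • w j) i) = 0
    have := congrFun hc i
    simp only [Finset.sum_apply, Pi.smul_apply, smul_eq_mul, Function.comp_apply] at this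
    simp only [Pi.sub_apply, Finset.sum_apply, Pi.smul_apply, smul_eq_mul, map_sub, map_sum, map_mul, hc']
    rw [← this, sub_eq_zero]
    exact Finset.sum_congr rfl fun j _ => congrArg (c j * ·) (congrFun (hwt j) i).symm
  have hK : LinearMap.ker f ≤ N₀ := fun x hx => by
    let K' : Submodule R (Fin q → R) := N₀ ⊔ Submodule.span R {x}
    haveI : Module.Finite R K' := Module.Finite.iff_fg.2
      ((Submodule.fg_span (Set.finite_range w)).sup (Submodule.fg_span_singleton x))
    have hle : K' ≤ LinearMap.ker f := sup_le hN₀ ((Submodule.span_singleton_le_iff_mem _ _).2 hx)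
    obtain ⟨k, a, y, hya, ha⟩ := Module.Flat.exists_factorization_of_comp_eq_zero_of_free
      (f := K'.subtype) (x := f) (LinearMap.ext fun z => hle z.2)
    obtain ⟨z, hz⟩ := Module.projective_lifting_property f y hf
    let ψ : (Fin q → R) →ₗ[R] (Fin q → R) := LinearMap.id - z.comp a
    have hfψ : ∀ v, f (ψ v) = 0 := fun v => by
      have e1 := LinearMap.congr_fun hz (a v)
      have e2 := LinearMap.congr_fun hya v
      simp only [LinearMap.comp_apply] at e1 e2
      simp [ψ, e1, ← e2]
    have hfix : ∀ v ∈ K', ψ v = v := fun v hv => by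
      have := LinearMap.congr_fun ha ⟨v, hv⟩
      simp only [LinearMap.comp_apply, Submodule.subtype_apply, LinearMap.zero_apply] at this
      simp [ψ, this]
    choose n hn hnJ using fun i : Fin q => hmod (ψ (Pi.single i 1)) (hfψ _)
    let Λ : (Fin q → R) →ₗ[R] (Fin q → R) := Fintype.linearCombination R n
    have hΛ : ∀ v, Λ v ∈ N₀ := fun v => by
      simp only [Λ, Fintype.linearCombination_apply]
      exact Submodule.sum_mem _ fun i _ => Submodule.smul_mem _ _ (hn i)
    obtain ⟨m, hm⟩ := isNilpotent_of_entries (J := J) (fun a ha => hnil a ha) (ψ - Λ) fun i => by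
      simpa [Λ] using hnJ i
    have step : ∀ j : ℕ, x - ((ψ - Λ) ^ j) x ∈ N₀ := by
      intro j
      induction j with
      | zero => simp
      | succ j ih =>
        have h1 : ∀ v ∈ N₀, (ψ - Λ) v ∈ N₀ := fun v hv => by
          rw [LinearMap.sub_apply, hfix v (Submodule.mem_sup_left hv)]
          exact N₀.sub_mem hv (hΛ v)
        have h2 : x - (ψ - Λ) x ∈ N₀ := by
          rw [LinearMap.sub_apply, hfix x (Submodule.mem_sup_right (Submodule.mem_span_singleton_self x))]
          simpa using hΛ x
        have := N₀.add_mem h2 (h1 _ ih)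
        rw [map_sub] at this
        rw [pow_succ', Module.End.mul_apply]
        simpa using this
    simpa [hm x] using step m
  haveI : Module.FinitePresentation R M := Module.finitePresentation_of_surjective f hf
    (le_antisymm hK hN₀ ▸ Submodule.fg_span (Set.finite_range w))
  exact Module.Flat.projective_of_finitePresentation

/-- Sections lift. -/
theorem exists_section [Module.Finite R M] [Module.Projective R M] (ht : Function.Surjective t)
    (hnil : ∀ x, t x = 0 → IsNilpotent x) (u : M →ₛₗ[t] N)
    (hker : LinearMap.ker u = RingHom.ker t • (⊤ : Submodule R M)) {q : ℕ}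
    (f : (Fin q → R) →ₗ[R] M) (hf : Function.Surjective f) (fb : (Fin q → S) →ₗ[S] N)
    (hfb : ∀ v, fb (t ∘ v) = u (f v)) (s : N →ₗ[S] (Fin q → S)) (hs : ∀ n, fb (s n) = n) :
    ∃ s' : M →ₗ[R] (Fin q → R), (∀ m, f (s' m) = m) ∧ ∀ m, t ∘ s' m = s (u m) := by
  classical
  obtain ⟨σ, hσ⟩ := Module.projective_lifting_property f LinearMap.id hf
  have hσ' : ∀ m, f (σ m) = m := LinearMap.congr_fun hσ
  choose l hl using fun (i : Fin q) (j : Fin q) => ht (s (u (f (Pi.single i 1))) j)
  let G : (Fin q → R) →ₗ[R] (Fin q → R) := Fintype.linearCombination R l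
  have hG : ∀ v, t ∘ G v = s (u (f v)) := fun v => by
    funext j
    conv_rhs => rw [pi_eq_sum_univ' v, map_sum, map_sum, map_sum]
    simp only [map_smul, LinearMap.map_smulₛₗ, Finset.sum_apply, Pi.smul_apply]
    simp [G, Fintype.linearCombination_apply, hl]
  let g := G.comp σ
  have hg : ∀ m, t ∘ g m = s (u m) := fun m => by
    show t ∘ G (σ m) = _
    rw [hG, hσ']
  let h : M →ₗ[R] M := f.comp g
  have hu : ∀ m, u (h m) = u m := fun m => by
    show u (f (g m)) = _
    rw [← hfb, hg, hs]
  have hsurj : Function.Surjective h := by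
    rw [← LinearMap.range_eq_top, ← top_le_iff]
    refine Submodule.le_of_le_smul_of_le_jacobson_bot (I := RingHom.ker t) Module.Finite.fg_top ?_ (fun m _ => ?_)
    · intro x hx
      exact (le_trans (nilradical_le_jacobson R) (le_of_eq Ideal.jacobson_bot.symm)) (hnil x hx)
    · refine Submodule.mem_sup.2 ⟨h m, ⟨m, rfl⟩, m - h m, ?_, add_sub_cancel _ _⟩
      rw [← hker, LinearMap.mem_ker, map_sub, hu, sub_self]
  let e := LinearEquiv.ofBijective h (OrzechProperty.bijective_of_surjective_endomorphism h hsurj)
  refine ⟨g.comp e.symm.toLinearMap, fun m => e.apply_symm_apply m, fun m => ?_⟩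
  show t ∘ g (e.symm m) = _
  rw [hg, ← hu, show h (e.symm m) = m from e.apply_symm_apply m]

/-- Compatible lifts in a tower of surjections. -/
theorem exists_compatible {X : ℕ → Type u} (d : ∀ n, X (n + 1) → X n) (hd : ∀ n, Function.Surjective (d n))
    (n : ℕ) (y : X n) : ∃ z : ∀ k, X k, (∀ k, d k (z (k + 1)) = z k) ∧ z n = y := by
  induction n generalizing X with
  | zero =>
    choose l hl using hd
    exact ⟨fun k => Nat.rec y (fun k z => l k z) k, fun k => hl k _, rfl⟩
  | succ n ih =>
    obtain ⟨z, hz, he⟩ := ih (X := fun k => X (k + 1)) (fun k => d (k + 1)) (fun k => hd (k + 1)) y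
    exact ⟨fun k => Nat.casesOn k (d 0 (z 0)) z, fun k => by cases k <;> simp [hz], he⟩

end Groth.Agent.LimProj
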