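import Groth.Agent.LimProj.Basic

/-!
# The limit of a compatible system of finite projective modules
-/

set_option autoImplicit false
set_option linter.style.haveILetI false

universe u

namespace Groth.Agent.LimProj

theorem exists_limit (A : Type u) [CommRing A] (An : ℕ → Type u) [∀ n, CommRing (An n)]
    (t : ∀ n, An (n + 1) →+* An n) (π : ∀ n, A →+* An n)
    (ht : ∀ n, Function.Surjective (t n)) (hnil : ∀ n (x : An (n + 1)), t n x = 0 → IsNilpotent x)
    (hcomp : ∀ n, (t n).comp (π (n + 1)) = π n) (hinj : ∀ a b : A, (∀ n, π n a = π n b) → a = b)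
    (hex : ∀ x : ∀ n, An n, (∀ n, t n (x (n + 1)) = x n) → ∃ a : A, ∀ n, π n a = x n)
    (M : ℕ → Type u) [∀ n, AddCommGroup (M n)] [∀ n, Module (An n) (M n)] (u : ∀ n, M (n + 1) →ₛₗ[t n] M n)
    [Module.Projective (An 0) (M 0)] (hfin : ∀ n, Module.Finite (An n) (M n)) (hflat : ∀ n, Module.Flat (An n) (M n))
    (hu : ∀ n, Function.Surjective (u n) ∧ LinearMap.ker (u n) = RingHom.ker (t n) • (⊤ : Submodule (An (n + 1)) (M (n + 1)))) :
    ∃ (P : Type u) (_ : AddCommGroup P) (_ : Module A P) (p : ∀ n, P →ₛₗ[π n] M n),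
      Module.Finite A P ∧ Module.Projective A P ∧ (∀ n (x : P), u n (p (n + 1) x) = p n x) ∧
      (∀ n, Function.Surjective (p n) ∧ LinearMap.ker (p n) = RingHom.ker (π n) • (⊤ : Submodule A P)) ∧
      (∀ x : (∀ n, M n), (∀ n, u n (x (n + 1)) = x n) → ∃! q : P, ∀ n, p n q = x n) := by
  classical
  haveI := hfin
  haveI := hflat
  have hproj : ∀ n, Module.Projective (An n) (M n) := fun n => by
    induction n with
    | zero => infer_instance
    | succ n ih => exact projective_of_reduction (ht n) (hnil n) (u n) (hu n).1 (hu n).2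
  obtain ⟨q, f₀, hf₀⟩ := Module.Finite.exists_fin' (An 0) (M 0)
  choose z hz hz0 using fun i : Fin q => exists_compatible (X := M) (fun n => u n) (fun n => (hu n).1) 0
    (f₀ (Pi.single i 1))
  let f : ∀ n, (Fin q → An n) →ₗ[An n] M n := fun n => Fintype.linearCombination (An n) fun i => z i n
  have hfu : ∀ n (v : Fin q → An (n + 1)), f n (t n ∘ v) = u n (f (n + 1) v) := fun n v => by
    simp [f, Fintype.linearCombination_apply, hz, map_sum]
  have hfs : ∀ n, Function.Surjective (f n) := fun n => by
    induction n with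
    | zero =>
      intro m
      obtain ⟨v, rfl⟩ := hf₀ m
      refine ⟨v, ?_⟩
      conv_rhs => rw [pi_eq_sum_univ' v, map_sum]
      simp [f, Fintype.linearCombination_apply, hz0]
    | succ n ih =>
      rw [← LinearMap.range_eq_top, ← top_le_iff]
      refine Submodule.le_of_le_smul_of_le_jacobson_bot (I := RingHom.ker (t n)) Module.Finite.fg_top ?_ (fun m _ => ?_)
      · intro x hx
        exact (le_trans (nilradical_le_jacobson _) (le_of_eq Ideal.jacobson_bot.symm)) (hnil n x hx)
      · obtain ⟨v, hv⟩ := ih (u n m)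
        choose w hw using fun i => ht n (v i)
        refine Submodule.mem_sup.2 ⟨f (n + 1) w, ⟨w, rfl⟩, m - f (n + 1) w, ?_, add_sub_cancel _ _⟩
        rw [← (hu n).2, LinearMap.mem_ker, map_sub, ← hfu, show t n ∘ w = v from funext hw, hv, sub_self]
  let Sec : ℕ → Type u := fun n => { s : M n →ₗ[An n] (Fin q → An n) // ∀ m, f n (s m) = m }
  have hstep : ∀ n (s : Sec n), ∃ s' : Sec (n + 1), ∀ m, t n ∘ s'.1 m = s.1 (u n m) := fun n s => by
    haveI := hproj (n + 1)
    obtain ⟨s', h1, h2⟩ := exists_section (ht n) (hnil n) (u n) (hu n).2 (f (n + 1)) (hfs (n + 1)) (f n) (hfu n) s.1 s.2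
    exact ⟨⟨s', h1⟩, h2⟩
  obtain ⟨s₀, hs₀⟩ := Module.projective_lifting_property (f 0) LinearMap.id (hfs 0)
  choose next hnext using hstep
  let s : ∀ n, Sec n := fun n => Nat.rec ⟨s₀, LinearMap.congr_fun hs₀⟩ next n
  have hsu : ∀ n m, t n ∘ (s (n + 1)).1 m = (s n).1 (u n m) := fun n m => hnext n (s n) m
  -- matrix of the limit idempotent
  have hcol : ∀ i j : Fin q, ∀ n, t n ((s (n + 1)).1 (z i (n + 1)) j) = (s n).1 (z i n) j := fun i j n => by
    rw [← hz i n]
    exact congrFun (hsu n _) j
  choose E hE using fun i j : Fin q => hex (fun n => (s n).1 (z i n) j) (hcol i j)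
  let e : (Fin q → A) →ₗ[A] (Fin q → A) := Fintype.linearCombination A E
  have he : ∀ n v, π n ∘ e v = (s n).1 (f n (π n ∘ v)) := fun n v => by
    funext j
    simp [e, f, Fintype.linearCombination_apply, map_sum, hE, Finset.sum_apply]
  have hee : ∀ v, e (e v) = e v := fun v => funext fun j => hinj _ _ fun n => by
    have := congrFun ((he n (e v)).trans (by rw [he n v, (s n).2])) j
    exact this.trans (congrFun (he n v) j).symm
  let P : Submodule A (Fin q → A) := LinearMap.range e
  let p : ∀ n, P →ₛₗ[π n] M n := fun n =>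
    { toFun := fun x => f n (π n ∘ x.1)
      map_add' := fun x y => by rw [← map_add]; congr 1; ext j; simp
      map_smul' := fun a x => by rw [← map_smul]; congr 1; ext j; simp }
  have hπs : ∀ n, Function.Surjective (π n) := fun n y => by
    obtain ⟨z', hz', he'⟩ := exists_compatible (X := An) (fun k => t k) ht n y
    obtain ⟨a, ha⟩ := hex z' hz'
    exact ⟨a, (ha n).trans he'⟩
  have hpe : ∀ n v, p n (⟨e v, v, rfl⟩ : P) = f n (π n ∘ v) := fun n v => by
    show f n (π n ∘ e v) = _
    rw [he, (s n).2]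
  refine ⟨P, inferInstance, inferInstance, p, Module.Finite.range e,
    Module.Projective.of_split P.subtype e.rangeRestrict (LinearMap.ext fun x => ?_), fun n x => ?_, fun n => ⟨?_, ?_⟩,
    fun x hx => ?_⟩
  · obtain ⟨v, hv⟩ := x.2
    refine Subtype.ext ?_
    show e x.1 = x.1
    rw [← hv, hee]
  · show u n (f (n + 1) (π (n + 1) ∘ x.1)) = f n (π n ∘ x.1)
    rw [← hfu]
    congr 1
    funext j
    exact RingHom.congr_fun (hcomp n) _
  · intro m
    obtain ⟨v, rfl⟩ := hfs n m
    choose a ha using fun j => hπs n (v j)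
    exact ⟨⟨e a, a, rfl⟩, by rw [hpe, show π n ∘ a = v from funext ha]⟩
  · refine le_antisymm (fun x hx => ?_) (Submodule.smul_le.2 fun a ha x _ => ?_)
    · obtain ⟨v, hv⟩ := x.2
      have h0 : ∀ j, π n (x.1 j) = 0 := fun j => by
        have h1 : f n (π n ∘ v) = 0 := by
          rw [← hpe, show (⟨e v, v, rfl⟩ : P) = x from Subtype.ext hv]
          exact hx
        have := congrFun (he n v) j
        rw [hv, h1, map_zero] at this
        exact this
      have hxe : x = ∑ j, x.1 j • (⟨e (Pi.single j 1), _, rfl⟩ : P) := Subtype.ext (by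
        rw [Submodule.coe_sum]
        simp only [Submodule.coe_smul, ← map_smul, ← map_sum, ← pi_eq_sum_univ']
        conv_lhs => rw [← hv, ← hee, hv])
      rw [hxe]
      exact Submodule.sum_mem _ fun j _ => Submodule.smul_mem_smul (h0 j) Submodule.mem_top
    · rw [LinearMap.mem_ker, LinearMap.map_smulₛₗ, show π n a = 0 from ha, zero_smul]
  · have hc : ∀ j n, t n ((s (n + 1)).1 (x (n + 1)) j) = (s n).1 (x n) j := fun j n => by
      rw [← hx n]
      exact congrFun (hsu n _) j
    choose a ha using fun j => hex (fun n => (s n).1 (x n) j) (hc j)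
    have ha' : ∀ n, π n ∘ a = (s n).1 (x n) := fun n => funext fun j => ha j n
    refine ⟨⟨e a, a, rfl⟩, fun n => ?_, fun y hy => Subtype.ext ?_⟩
    · show p n _ = x n
      rw [hpe, ha', (s n).2]
    · funext j
      refine hinj _ _ fun n => ?_
      obtain ⟨v, hv⟩ := y.2
      have h1 : f n (π n ∘ v) = x n := by
        rw [← hpe, show (⟨e v, v, rfl⟩ : P) = y from Subtype.ext hv]
        exact hy n
      show π n (y.1 j) = π n (e a j)
      rw [← hv]
      refine (congrFun (he n v) j).trans ?_
      rw [h1]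
      refine ((congrFun (he n a) j).trans ?_).symm
      rw [ha', (s n).2]

end Groth.Agent.LimProj
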